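import Groth.Agent.AVAmple.Square
import Groth.Agent.AVVanish.Ample
import Groth.Agent.AVDeg.HomBC
import Groth.Agent.AVDeg.Inter
import Groth.Agent.AmpleDesc.Basic
import Groth.Agent.W7FlatBC.Sections
import Groth.Agent.S1664
import Groth.Agent.S1551
import Groth.Agent.S14809

/-!
# Sections and cohomology of ample modules on abelian varieties over any field
-/

set_option autoImplicit false
set_option backward.isDefEq.respectTransparency false
set_option backward.isDefEq.respectTransparency.types false
set_option linter.style.haveILetI false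
set_option linter.unusedSectionVars false
set_option maxHeartbeats 1000000

universe u

open CategoryTheory CategoryTheory.Limits MonoidalCategory CartesianMonoidalCategory MonObj GrpObj AlgebraicGeometry
open TopologicalSpace

noncomputable section

namespace Groth.Agent.AVFin

attribute [local instance] W7Cube.law AVDeg.overInst

open Groth.Agent _root_.TMul _root_.InvGen
open Groth.Agent.QC (res resO res_res res_smul resO_resO app_res res_self)

/-- Global generation descends along flat surjective base change of affine schemes. -/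
theorem gen_of_pullback {X S X' S' : Scheme.{u}} {f : X ⟶ S} {g : S' ⟶ S} {g' : X' ⟶ X} {f' : X' ⟶ S'}
    (H : IsPullback g' f' f g) [IsAffine S] [IsAffine S'] [QuasiCompact f] [QuasiSeparated f] [Flat g] [Surjective g]
    {M : X.Modules} (hM : PicF.IsInvertible M) (h : Groth.Agent.S1664.Gen ((Scheme.Modules.pullback g').obj M)) :
    Groth.Agent.S1664.Gen M := by
  intro x
  haveI : Surjective g' := MorphismProperty.of_isPullback H.flip ‹Surjective g›
  obtain ⟨x', rfl⟩ := g'.surjective x
  obtain ⟨s', hx'⟩ := h x'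
  obtain ⟨k, b, m, hz⟩ := AmpleDesc.exists_combination (f' := f') (g := g) H (isQCoh_of_isInvertible hM) (val s' ⊤)
  let σ : Fin k → (Coh.structureModule X' ⟶ (Scheme.Modules.pullback g').obj M) :=
    fun j => homOf (L := Coh.structureModule X') (f'.appTop (b j)) ≫
      (PicLoc.pullbackStructureIso g').inv ≫ (Scheme.Modules.pullback g').map (homOf (m j))
  have hsum : s' = ∑ j, σ j := by
    refine hom_ext_val ?_
    rw [val_sum, hz]
    refine Finset.sum_congr rfl fun j _ => ?_
    rw [val_homOf_comp, AmpleDesc.val_pullback, val_homOf, Groth.Agent.QC.res_self]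
    congr 1
    exact (Groth.Agent.QC.resO_self _ _).symm
  rw [hsum] at hx'
  obtain ⟨j, hj⟩ := Opens.mem_iSup.1 (genLocus_sum_le σ (PicLoc.isInvertible_pullback g' hM) hx')
  have hpre : g' ⁻¹ᵁ CohB1.genLocus _ (homOf (m j)) =
      CohB1.genLocus _ ((PicLoc.pullbackStructureIso g').inv ≫ (Scheme.Modules.pullback g').map (homOf (m j))) :=
    (genLocus_pullback g' hM (homOf (m j)) (PicLoc.pullbackStructureIso g').symm).symm
  refine ⟨homOf (m j), ?_⟩
  show x' ∈ g' ⁻¹ᵁ CohB1.genLocus _ (homOf (m j))
  rw [hpre]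
  exact AmpleDesc.mem_genLocus_of_comp (PicLoc.isInvertible_pullback g' hM) _ _ hj

/-- Over an algebraically closed field the square of an ample module has enough sections. -/
theorem gen_sq_algClosed {K : Type u} [Field K] [IsAlgClosed K] (X : Over (Spec (CommRingCat.of K))) [GrpObj X]
    [IsProper X.hom] [GeometricallyIntegral X.hom] [IsCommMonObj X] {L : X.left.Modules} (hLa : CohB1.IsAmple L) :
    Groth.Agent.S1664.Gen (CohB1.tensorMod L L) := by
  have hL := hLa.1
  haveI : Subsingleton (Spec (CommRingCat.of K)) := inferInstanceAs (Subsingleton (PrimeSpectrum K))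
  haveI : IsIntegral X.left := GeometricallyIntegral.isIntegral_of_subsingleton X.hom
  haveI : JacobsonSpace X.left := LocallyOfFiniteType.jacobsonSpace X.hom
  obtain ⟨s, hne⟩ : ∃ s : Coh.structureModule X.left ⟶ L, (CohB1.genLocus L s : Set X.left).Nonempty := by
    obtain ⟨e, -⟩ := CohFinite.exists_zero_equiv K L (X := X.left)
    haveI := AVVanish.hh_zero (A := X) hLa
    haveI : Nontrivial Γ(L, ⊤) := e.injective.nontrivial
    obtain ⟨t, ht⟩ := exists_ne (0 : Γ(L, ⊤))
    refine ⟨homOf t, S14809.genLocus_nonempty hL _ fun h0 => ht ?_⟩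
    have := congrArg (fun f => val f ⊤) h0
    rw [val_homOf, res_self] at this
    exact this
  intro x
  obtain ⟨y, hy, hyc⟩ := nonempty_inter_closedPoints (Z := closure {x}) ⟨x, subset_closure rfl⟩
    isClosed_closure.isLocallyClosed
  let p : 𝟙_ (Over (Spec (CommRingCat.of K))) ⟶ X :=
    Over.homMk _ ((pointEquivClosedPoint X.hom).symm ⟨y, hyc⟩).2
  have hp : p.left (IsLocalRing.closedPoint K) = y :=
    congrArg Subtype.val ((pointEquivClosedPoint X.hom).apply_symm_apply ⟨y, hyc⟩)
  obtain ⟨a, ha1, ha2⟩ := AVAmple.exists_translates X (CohB1.genLocus L s) hne p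
  rw [hp] at ha1 ha2
  obtain ⟨φ⟩ := AVAmple.square X L hL a
  set f₁ := (𝟙 X * (toUnit X ≫ a)).left
  set f₂ := (𝟙 X * (toUnit X ≫ a)⁻¹).left
  let s₁ := (PicLoc.pullbackStructureIso f₁).symm.hom ≫ (Scheme.Modules.pullback f₁).map s
  let s₂ := (PicLoc.pullbackStructureIso f₂).symm.hom ≫ (Scheme.Modules.pullback f₂).map s
  refine ⟨SecTwist.tmulHom s₁ s₂ ≫ φ.hom, ?_⟩
  have hy' : y ∈ CohB1.genLocus _ (SecTwist.tmulHom s₁ s₂ ≫ φ.hom) := by
    rw [TMul.genLocus_comp, TMul.genLocus_tmulHom (PicLoc.isInvertible_pullback _ hL) (PicLoc.isInvertible_pullback _ hL),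
      TMul.genLocus_pullback f₁ hL s _, TMul.genLocus_pullback f₂ hL s _]
    exact ⟨ha1, ha2⟩
  exact (specializes_iff_mem_closure.2 hy).mem_open (TopologicalSpace.Opens.isOpen _) hy'

variable {k : Type u} [Field k] {Y : Over (Spec (CommRingCat.of k))} [GrpObj Y] [IsProper Y.hom]
  [GeometricallyIntegral Y.hom] [IsCommMonObj Y]

theorem isAmple_bcK {M : Y.left.Modules} (hM : CohB1.IsAmple M) :
    CohB1.IsAmple ((Scheme.Modules.pullback
      (pullback.fst Y.hom (AVDeg.specMap k (AlgebraicClosure k)))).obj M) :=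
  haveI : IsAffineHom (pullback.fst Y.hom (AVDeg.specMap k (AlgebraicClosure k))) :=
    MorphismProperty.pullback_fst _ _ inferInstance
  TMul.isAmple_pullback_of_isAffineHom _ hM

/-- **The square of an ample module on an abelian variety has enough sections.** -/
theorem gen_sq {M : Y.left.Modules} (hM : CohB1.IsAmple M) : Groth.Agent.S1664.Gen (CohB1.tensorMod M M) := by
  let g := AVDeg.specMap k (AlgebraicClosure k)
  haveI : Surjective g := by
    haveI : Subsingleton (Spec (CommRingCat.of k)) := inferInstanceAs (Subsingleton (PrimeSpectrum k))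
    haveI : Nonempty (Spec (CommRingCat.of (AlgebraicClosure k))) :=
      inferInstanceAs (Nonempty (PrimeSpectrum (AlgebraicClosure k)))
    exact ⟨Function.surjective_to_subsingleton _⟩
  haveI : Flat g := by
    exact (HasRingHomProperty.Spec_iff (P := @Flat)).2 (RingHom.flat_algebraMap_iff.2 inferInstance)
  haveI : QuasiCompact Y.hom := inferInstance
  haveI : QuasiSeparated Y.hom := inferInstance
  refine gen_of_pullback (IsPullback.of_hasPullback Y.hom g) (isInvertible_tensorMod hM.1 hM.1) fun x => ?_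
  obtain ⟨s, hs⟩ := gen_sq_algClosed (AVDeg.bcK k (AlgebraicClosure k) Y) (isAmple_bcK hM) x
  obtain ⟨e⟩ := TMul.nonempty_pullTensorIso (pullback.fst Y.hom g) M M
  refine ⟨s ≫ e.hom, ?_⟩
  rw [genLocus_comp]
  exact hs

/-- **Ample modules on abelian varieties have no higher cohomology.** -/
theorem hh_pos {M : Y.left.Modules} (hM : CohB1.IsAmple M) (j : ℕ) (hj : 0 < j) :
    Subsingleton (Coh.HH Y.left M j) := by
  let K := AlgebraicClosure k
  let g := AVDeg.specMap k K
  let g' : (AVDeg.bcK k K Y).left ⟶ Y.left := pullback.fst Y.hom g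
  have sq : IsPullback g' ((AVDeg.bcK k K Y).left ↘ Spec (CommRingCat.of K)) (Y.left ↘ Spec (CommRingCat.of k)) g :=
    IsPullback.of_hasPullback Y.hom g
  haveI : CompactSpace Y.left := QuasiCompact.compactSpace_of_compactSpace Y.hom
  haveI : QuasiSeparatedSpace Y.left := quasiSeparatedSpace_of_quasiSeparated Y.hom
  obtain ⟨e⟩ := W7FlatBC.nonempty_hh_baseChange k K g' sq M (isQCoh_of_isInvertible hM.1) j
  haveI := AVVanish.hh_pos (A := AVDeg.bcK k K Y) (L := (Scheme.Modules.pullback g').obj M) (isAmple_bcK hM) j hj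
  haveI : Subsingleton (TensorProduct k K (Coh.HH Y.left M j)) := e.toEquiv.subsingleton
  exact (Module.FaithfullyFlat.subsingleton_tensorProduct_iff_right k K).1 this

/-- The dimension of the space of sections of an ample module. -/
theorem h0_eq_top {g : ℕ} (hg : topologicalKrullDim Y.left = (g : WithBot ℕ∞)) {M : Y.left.Modules}
    (hM : CohB1.IsAmple M) :
    (g.factorial : ℚ) * (CurveRR.h k M 0 : ℚ) = AVDeg.top k (fun _ : Fin g => PicGrp.cls M hM.1) := by
  haveI : IsProper (Y.left ↘ Spec (CommRingCat.of k)) := inferInstanceAs (IsProper Y.hom)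
  obtain ⟨e⟩ := AVDeg.nonempty_rep_iso hM.1
  rw [← AVDeg.factorial_mul_euler hg, CurveRR.euler_eq_of_iso e]
  congr 1
  haveI : Nonempty Y.left := ⟨η[Y].left (IsLocalRing.closedPoint k)⟩
  have h := CurveRR.euler_eq_sum (k := k) M 1 fun i hi => hh_pos hM i hi
  simp only [Finset.sum_range_one, pow_zero, _root_.one_mul] at h
  rw [h, Int.cast_natCast]

/-- The dimension of the sections of powers. -/
theorem h0_pow {g : ℕ} (hg : topologicalKrullDim Y.left = (g : WithBot ℕ∞)) {M : Y.left.Modules}
    (hM : CohB1.IsAmple M) {P : Y.left.Modules} (hP : CohB1.IsAmple P) {j : ℕ}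
    (hc : PicGrp.cls P hP.1 = PicGrp.cls M hM.1 ^ j) :
    CurveRR.h k P 0 = j ^ g * CurveRR.h k M 0 := by
  haveI : IsProper (Y.left ↘ Spec (CommRingCat.of k)) := inferInstanceAs (IsProper Y.hom)
  have h1 := h0_eq_top hg hP
  have h2 : AVDeg.top k (fun _ : Fin g => PicGrp.cls P hP.1) =
      (j : ℚ) ^ g * AVDeg.top k (fun _ : Fin g => PicGrp.cls M hM.1) := by
    have := (AVDeg.topLin k hg.le).map_smul_univ (fun _ : Fin g => (j : ℤ))
      (fun _ => Additive.ofMul (PicGrp.cls M hM.1))
    simp only [AVDeg.topLin_apply, natCast_zsmul, toMul_nsmul, toMul_ofMul, Finset.prod_const, Finset.card_univ,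
      Fintype.card_fin, zsmul_eq_mul, Int.cast_pow, Int.cast_natCast] at this
    rw [hc]
    exact this
  rw [h2, ← h0_eq_top hg hM, mul_left_comm] at h1
  exact_mod_cast mul_left_cancel₀ (by exact_mod_cast g.factorial_ne_zero) h1

end Groth.Agent.AVFin
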