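import Groth.Agent.FlatMor.ReducedDescent
import Groth.Agent.GrpField.QAAffine
import Groth.Agent.GrpField.SchImgSmooth
import Mathlib.RingTheory.Adjoin.Tower
import Mathlib.AlgebraicGeometry.Geometrically.Integral

/-!
The target of a finite flat surjection from an abelian variety is an abelian variety.
-/

set_option autoImplicit false
set_option backward.isDefEq.respectTransparency false
set_option backward.isDefEq.respectTransparency.types false
set_option linter.style.haveILetI false

universe u

open CategoryTheory CategoryTheory.Limits MonoidalCategory CartesianMonoidalCategory MonObj AlgebraicGeometry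

noncomputable section

namespace Groth.Agent.AVFin

variable {k : Type u} [Field k] {B C : Over (Spec (CommRingCat.of k))}

theorem locallyOfFiniteType_target (f : B ⟶ C) [IsFinite f.left] [Flat f.left] [Surjective f.left]
    [LocallyOfFiniteType B.hom] [IsReduced B.left] : LocallyOfFiniteType C.hom := by
  haveI : IsReduced C.left := FlatMor.isReduced_of_flat_surjective f.left
  haveI : IsSchemeTheoreticallyDominant f.left := .of_isDominant f.left
  rw [HasRingHomProperty.iff_appLE (P := @LocallyOfFiniteType)]
  intro U V e
  have hV : IsAffineOpen (f.left ⁻¹ᵁ V.1) := V.2.preimage f.left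
  have e' : f.left ⁻¹ᵁ V.1 ≤ B.hom ⁻¹ᵁ U.1 := by
    rw [← Over.w f, Scheme.Hom.comp_preimage]
    exact f.left.preimage_mono e
  have hcomp : C.hom.appLE U.1 V.1 e ≫ f.left.app V.1 = B.hom.appLE U.1 (f.left ⁻¹ᵁ V.1) e' := by
    rw [Scheme.Hom.app_eq_appLE, Scheme.Hom.appLE_comp_appLE]
    simp only [Over.w]
  have h1 : (B.hom.appLE U.1 (f.left ⁻¹ᵁ V.1) e').hom.FiniteType :=
    HasRingHomProperty.appLE @LocallyOfFiniteType B.hom inferInstance U ⟨_, hV⟩ e'
  have h2 : (f.left.app V.1).hom.Finite := f.left.finite_app V.1 V.2
  have := IsLocallyNoetherian.component_noetherian (X := Spec (CommRingCat.of k)) U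
  have hinj : Function.Injective (f.left.app V.1).hom := f.left.app_injective V.1
  algebraize [(C.hom.appLE U.1 V.1 e).hom, (f.left.app V.1).hom,
    (f.left.app V.1).hom.comp (C.hom.appLE U.1 V.1 e).hom]
  have hft : Algebra.FiniteType Γ(Spec (CommRingCat.of k), U.1) Γ(B.left, f.left ⁻¹ᵁ V.1) := by
    rw [← hcomp, CommRingCat.hom_comp] at h1
    exact h1
  exact ⟨fg_of_fg_of_fg Γ(Spec (CommRingCat.of k), U.1) Γ(C.left, V.1) Γ(B.left, f.left ⁻¹ᵁ V.1) hft.out
    Module.Finite.fg_top hinj⟩

theorem geometricallyIrreducible_target (f : B ⟶ C) [Surjective f.left] [GeometricallyIrreducible B.hom] :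
    GeometricallyIrreducible C.hom := by
  refine ⟨fun K _ y Z p₁ p₂ h => ?_⟩
  haveI : Surjective (pullback.snd f.left p₁) := MorphismProperty.pullback_snd _ _ inferInstance
  have big : IsPullback (pullback.fst f.left p₁) (pullback.snd f.left p₁ ≫ p₂) B.hom y := by
    rw [← Over.w f]
    exact (IsPullback.of_hasPullback f.left p₁).paste_vert h
  have hirr : IrreducibleSpace (pullback f.left p₁ : Scheme.{u}) :=
    GeometricallyIrreducible.geometrically_irreducibleSpace _ _ _ big
  haveI := hirr
  exact Function.Surjective.irreducibleSpace (f := ⇑(pullback.snd f.left p₁))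
    (pullback.snd f.left p₁).continuous (pullback.snd f.left p₁).surjective

theorem isAV_target [GrpObj C] [IsProper B.hom] [GeometricallyIntegral B.hom] (f : B ⟶ C) [IsFinite f.left]
    [Flat f.left] [Surjective f.left] : IsProper C.hom ∧ GeometricallyIntegral C.hom := by
  haveI : Subsingleton (Spec (CommRingCat.of k)) := inferInstanceAs (Subsingleton (PrimeSpectrum k))
  haveI : IsIntegral B.left := GeometricallyIntegral.isIntegral_of_subsingleton B.hom
  haveI := locallyOfFiniteType_target f
  haveI : IsReduced C.left := FlatMor.isReduced_of_flat_surjective f.left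
  haveI : IsSchemeTheoreticallyDominant f.left := .of_isDominant f.left
  haveI : GeometricallyReduced C.hom := GrpField.SchImg.geometricallyReduced_of_schDom f
  haveI := geometricallyIrreducible_target f
  haveI : IsSeparated C.hom := GrpField.isSeparated_hom C
  haveI : CompactSpace B.left := QuasiCompact.compactSpace_of_compactSpace B.hom
  haveI : CompactSpace C.left := f.left.surjective.compactSpace f.left.continuous
  haveI : QuasiCompact C.hom := HasAffineProperty.iff_of_isAffine.mpr ‹CompactSpace C.left›
  haveI : UniversallyClosed (f.left ≫ C.hom) := by rw [Over.w f]; infer_instance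
  haveI : UniversallyClosed C.hom := UniversallyClosed.of_comp_surjective f.left C.hom
  exact ⟨⟨⟩, .of_geometricallyReduced_of_geometricallyIrreducible _⟩

end Groth.Agent.AVFin
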