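import Groth.Agent.CurveRR.Euler
import Groth.Agent.CohFinite.AmpleFinite
import Groth.Agent.TMul.GlobGen
import Groth.Agent.ProjMor.Morph

/-!
# Sections over affine opens spanned by global sections
-/

set_option autoImplicit false
set_option backward.isDefEq.respectTransparency false
set_option backward.isDefEq.respectTransparency.types false
set_option linter.style.haveILetI false
set_option linter.unusedSectionVars false
set_option maxHeartbeats 1000000

universe u

open CategoryTheory CategoryTheory.Limits AlgebraicGeometry TopologicalSpace Opposite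
open Groth.Agent.QC (res resO res_res res_self res_smul app_res appₗ section_eq_of_locally)
open Groth.Agent.CohFinite
open TMul (homOf val val_homOf)
open ProjMor (ev)

attribute [local instance] Abelian.hasFiniteBiproducts

noncomputable section

namespace Groth.Agent.AVFin

variable {P X : Scheme.{u}}

/-- a map out of a globally generated module is determined by global sections -/
theorem eq_zero_of_gg {F G : X.Modules} (hgg : Curv2.IsGloballyGenerated F) (ψ : F ⟶ G)
    (h : ∀ s : Γ(F, ⊤), homOf s ≫ ψ = 0) : ψ = 0 := by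
  obtain ⟨ι, p, hp⟩ := hgg
  refine (cancel_epi p).1 (Sigma.hom_ext _ _ fun i => ?_)
  rw [comp_zero, comp_zero]
  let g : Coh.structureModule X ⟶ F := Sigma.ι (fun _ : ι => SheafOfModules.unit X.ringCatSheaf) i ≫ p
  have hg : g = homOf (val g ⊤) := TMul.hom_ext_val ((val_homOf _ _).trans (res_self _ _ _)).symm
  refine (Category.assoc _ _ _).symm.trans ?_
  show g ≫ ψ = 0
  rw [hg]
  exact h _

/-- finitely many global sections generate -/
theorem exists_finite_sections [IsLocallyNoetherian X] [CompactSpace X] {F : X.Modules} (hF : Coh.IsCoh F)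
    (hgg : Curv2.IsGloballyGenerated F) :
    ∃ (l : ℕ) (s : Fin l → Γ(F, ⊤)),
      Epi (biproduct.desc (f := fun _ : Fin l => Coh.structureModule X) fun i => homOf (s i)) := by
  classical
  have hcov : ∀ x : X, ∃ D : X.Opens, IsAffineOpen D ∧ x ∈ D := fun x => by
    obtain ⟨D, hD, hx, -⟩ := exists_isAffineOpen_mem_and_subset (X := X) (x := x) (U := ⊤) trivial
    exact ⟨D, hD, hx⟩
  choose D hD hxD using hcov
  obtain ⟨T, hT⟩ := isCompact_univ.elim_finite_subcover (fun x : X => ((D x : X.Opens) : Set X))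
    (fun x => (D x).2) (fun x _ => Set.mem_iUnion.mpr ⟨x, hxD x⟩)
  have hfin : ∀ x : X, ∃ t : Finset Γ(F, ⊤), ∀ s : Γ(F, ⊤), res F (le_top : D x ≤ ⊤) s ∈
      Submodule.span Γ(X, D x) (res F (le_top : D x ≤ ⊤) '' (t : Set Γ(F, ⊤))) := fun x => by
    haveI := (QC.isCoh_iff_finite_sections.1 hF).2 ⟨D x, hD x⟩
    haveI : IsNoetherianRing Γ(X, D x) := IsLocallyNoetherian.component_noetherian ⟨D x, hD x⟩
    have hfg : (Submodule.span Γ(X, D x) (Set.range (res F (le_top : D x ≤ ⊤)))).FG := IsNoetherian.noetherian _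
    obtain ⟨t, ht, hspan⟩ := (Submodule.fg_span_iff_fg_span_finset_subset _).1 hfg
    choose pre hpre using fun y : t => ht y.2
    refine ⟨t.attach.image pre, fun s => ?_⟩
    have hs : res F (le_top : D x ≤ ⊤) s ∈ Submodule.span Γ(X, D x) (Set.range (res F (le_top : D x ≤ ⊤))) :=
      Submodule.subset_span (Set.mem_range_self s)
    rw [hspan] at hs
    refine Submodule.span_mono ?_ hs
    intro y hy
    exact ⟨pre ⟨y, hy⟩, Finset.mem_coe.2 (Finset.mem_image.2 ⟨⟨y, hy⟩, Finset.mem_attach _ _, rfl⟩), hpre _⟩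
  choose t ht using hfin
  let U := T.biUnion t
  let s : Fin U.card → Γ(F, ⊤) := fun i => (U.equivFin.symm i).1
  refine ⟨U.card, s, Preadditive.epi_of_cancel_zero _ fun {G} ψ hψ => eq_zero_of_gg hgg ψ fun a => ?_⟩
  refine TMul.hom_ext_val (section_eq_of_locally fun y _ => ?_)
  obtain ⟨x, hx, hyx⟩ := Set.mem_iUnion₂.mp (hT (Set.mem_univ y))
  refine ⟨D x, le_top, hyx, ?_⟩
  rw [TMul.res_val, TMul.res_val]
  show ψ.app (D x) (val (homOf a) (D x)) = 0
  rw [val_homOf]
  refine (Submodule.span_le (p := LinearMap.ker (appₗ ψ (D x)))).2 ?_ (ht x a)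
  rintro _ ⟨g, hg, rfl⟩
  obtain ⟨i, rfl⟩ : ∃ i, s i = g := ⟨U.equivFin ⟨g, Finset.mem_biUnion.2 ⟨x, hx, hg⟩⟩, by simp [s]⟩
  show ψ.app (D x) (res F le_top (s i)) = 0
  rw [← val_homOf (s i) (D x)]
  show val (homOf (s i) ≫ ψ) (D x) = 0
  have h := biproduct.ι_desc_assoc (f := fun _ : Fin U.card => Coh.structureModule X) (fun i => homOf (s i)) i ψ
  rw [hψ, comp_zero] at h
  rw [← h]
  rfl


/-- Over affine opens, globally generated coherent modules are spanned by global sections. -/
theorem genOn_of_gg [IsLocallyNoetherian P] [CompactSpace P] {G : P.Modules} (hG : Coh.IsCoh G)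
    (hgg : Curv2.IsGloballyGenerated G) {U : P.Opens} (hU : IsAffineOpen U) : TMul.GenOn G U := by
  haveI := hG.1
  obtain ⟨l, s, hs⟩ := exists_finite_sections hG hgg
  let Q := fun _ : Fin l => Coh.structureModule P
  let p := biproduct.desc (f := Q) fun i => homOf (s i)
  haveI : Epi p := hs
  refine eq_top_iff.2 fun y _ => Groth.Agent.QC.mem_span_of_locally hU _ y fun x hx => ?_
  obtain ⟨V, hV, hxV, w, hw⟩ := TMul.exists_app_eq_of_epi p y hx
  refine ⟨V, hV, hxV, ?_⟩
  have hw' : w = ∑ i, (biproduct.π Q i ≫ biproduct.ι Q i).app V w := by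
    conv_lhs => rw [show w = (𝟙 (⨁ Q) : _ ⟶ _).app V w from rfl, ← biproduct.total]
    exact map_sum (AddMonoidHom.mk' (fun ψ : (⨁ Q) ⟶ ⨁ Q => ψ.app V w) fun _ _ => rfl) _ _
  rw [← hw, hw', map_sum]
  refine Submodule.sum_mem _ fun i _ => ?_
  let a : Γ(P, V) := (biproduct.π Q i).app V w
  have e : p.app V ((biproduct.π Q i ≫ biproduct.ι Q i).app V w) = (homOf (s i)).app V a := by
    show (biproduct.ι Q i ≫ p).app V a = _
    rw [biproduct.ι_desc]
  rw [e]
  have e2 : (homOf (s i)).app V a = a • res G le_top (s i) := by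
    have h1 := TMul.app_smul (homOf (s i)) a (1 : Γ(P, V))
    rw [← val_homOf]
    refine Eq.trans (congrArg ((homOf (s i)).app V) ?_) h1
    exact (mul_one a).symm
  rw [e2]
  refine Submodule.smul_mem _ _ (Submodule.subset_span ⟨res G le_top (s i), ⟨s i, rfl⟩, ?_⟩)
  rw [res_res]

variable {Y : Scheme.{u}}

/-- Sections of a module over the inverse image of an affine open are spanned by global ones, when
the direct image is globally generated. -/
theorem push_span [IsLocallyNoetherian P] [CompactSpace P] (f : Y ⟶ P) (F : Y.Modules)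
    (hG : Coh.IsCoh ((Scheme.Modules.pushforward f).obj F))
    (hgg : Curv2.IsGloballyGenerated ((Scheme.Modules.pushforward f).obj F)) {D : P.Opens}
    (hD : IsAffineOpen D) (p : Γ(F, f ⁻¹ᵁ D) → Prop) (h0 : p 0) (hadd : ∀ a b, p a → p b → p (a + b))
    (hgen : ∀ (c : Γ(P, D)) (t : Γ(F, ⊤)), p (ev f D (f ⁻¹ᵁ D) le_rfl c • res F le_top t))
    (y : Γ(F, f ⁻¹ᵁ D)) : p y := by
  let G := (Scheme.Modules.pushforward f).obj F
  have hy : (show Γ(G, D) from y) ∈ Submodule.span Γ(P, D) (Set.range (res G (le_top : D ≤ ⊤))) :=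
    (genOn_of_gg hG hgg hD) ▸ trivial
  suffices ∀ z : Γ(G, D), z ∈ Submodule.span Γ(P, D) (Set.range (res G (le_top : D ≤ ⊤))) →
      ∀ c : Γ(P, D), p (show Γ(F, f ⁻¹ᵁ D) from c • z) by
    have := this _ hy 1
    rwa [one_smul] at this
  intro z hz
  induction hz using Submodule.span_induction with
  | mem z hz =>
    obtain ⟨t, rfl⟩ := hz
    intro c
    have := hgen c (show Γ(F, ⊤) from t)
    rw [show ev f D (f ⁻¹ᵁ D) le_rfl = (f.app D).hom by
      simp only [ev, Scheme.Hom.appLE_eq_app]] at this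
    exact this
  | zero => intro c; rw [smul_zero]; exact h0
  | add a b _ _ ha hb => intro c; rw [smul_add]; exact hadd _ _ (ha c) (hb c)
  | smul r a _ ha => intro c; rw [smul_smul]; exact ha (c * r)

variable (k : Type u) [Field k] [Y.Over (Spec (CommRingCat.of k))] [IsProper (Y ↘ Spec (CommRingCat.of k))]

/-- A basis of the global sections. -/
theorem exists_span_sections {F : Y.Modules} (hF : Coh.IsCoh F) :
    ∃ s : Fin (CurveRR.h k F 0) → Γ(F, ⊤), ∀ z : Γ(F, ⊤), ∃ a : Fin (CurveRR.h k F 0) → k,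
      z = ∑ j, (show Γ(Y, ⊤) from Coh.toGlobal (Y ↘ Spec (CommRingCat.of k)) (a j)) • s j := by
  obtain ⟨e, he⟩ := CohFinite.exists_zero_equiv k F
  haveI : Module.Finite k (Coh.HH Y F 0) := finite_proper k Y F hF 0
  let B := Module.finBasis k (Coh.HH Y F 0)
  refine ⟨fun j => e (B j), fun z => ⟨fun j => B.repr (e.symm z) j, ?_⟩⟩
  conv_lhs => rw [← e.apply_symm_apply z, ← B.sum_repr (e.symm z)]
  rw [map_sum]
  exact Finset.sum_congr rfl fun j _ => he _ _

end Groth.Agent.AVFin
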