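import Groth.Agent.AVFin.Basic
import Groth.Agent.AVFin.Span
import Groth.Agent.AmpleEmb.Closed
import Groth.Agent.SerrePn.ClosedTwist
import Groth.Agent.Intersect.ProjSpace
import Groth.Agent.Intersect.Hyper
import Groth.Agent.Nakai.ClMul
import Groth.Agent.TMul.AffineLocus
import Groth.Agent.AVDeg.Polarized

/-!
# Uniform projective embeddings of polarised abelian varieties
-/

set_option autoImplicit false
set_option backward.isDefEq.respectTransparency false
set_option backward.isDefEq.respectTransparency.types false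
set_option linter.style.haveILetI false
set_option linter.unusedSectionVars false
set_option maxHeartbeats 1000000

universe u

open CategoryTheory CategoryTheory.Limits MonoidalCategory CartesianMonoidalCategory MonObj GrpObj AlgebraicGeometry
open TopologicalSpace
open Groth.Agent.QC (res resO res_res res_self res_smul resO_resO app_res)
open TMul (IsGen val homOf val_homOf tm res_tm smul_tm tm_smul res_val)
open ProjMor (ev)

noncomputable section

namespace Groth.Agent.AVFin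

attribute [local instance] W7Cube.law AVDeg.overInst

section Charts

variable {K : Type u} [Field K] {Y : Scheme.{u}}

/-- Sections whose loci are affine and whose ratios generate the functions give a closed immersion
in projective space. -/
theorem exists_closed_of_charts (q : Y ⟶ Spec (CommRingCat.of K)) [IsProper q] {N : Y.Modules}
    (hN : PicF.IsInvertible N) {I : Type*} [Fintype I] (s : I → Γ(N, ⊤)) {n : ℕ} (hn : Fintype.card I = n)
    (hs : ∀ x : Y, ∃ i : I, x ∈ CohB1.genLocus N (homOf (s i)) ∧ IsAffineOpen (CohB1.genLocus N (homOf (s i))) ∧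
      Subring.closure (Set.range (ev q ⊤ (CohB1.genLocus N (homOf (s i))) le_top) ∪
        {c | ∃ l, c • res N (le_top : CohB1.genLocus N (homOf (s i)) ≤ ⊤) (s i) =
          res N (le_top : CohB1.genLocus N (homOf (s i)) ≤ ⊤) (s l)}) = ⊤) :
    ∃ r : Y ⟶ CohB1.ProjSpace n K, r ≫ CohB1.ProjSpace.toSpec n K = q ∧ IsClosedImmersion r ∧
      Nonempty ((Scheme.Modules.pullback r).obj (Twist.twistProjSpace n K 1) ≅ N) := by
  subst hn
  let e := Fintype.equivFin I
  let n := Fintype.card I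
  let s' : Fin (n + 1) → ProjUP.Γm N := Fin.cons (0 : Γ(N, ⊤)) fun j => s (e.symm j)
  have hs' : ∀ i, ∃ j, s' j = s i := fun i => ⟨(e i).succ, by simp [s']⟩
  have hgen : ProjUP.GeneratedBy N s' := ProjMor.generatedBy_of_mem_genLocus s' fun x => by
    obtain ⟨i, hx, -⟩ := hs x
    obtain ⟨j, hj⟩ := hs' i
    exact ⟨j, by rw [hj]; exact hx⟩
  obtain ⟨r, hr, τ, hτ⟩ := ProjMor.exists_projSpace q hN s' hgen
  have := ProjMor.isProper_toSpec n K
  have : IsProper (r ≫ CohB1.ProjSpace.toSpec n K) := by rw [hr]; infer_instance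
  have : IsProper r := IsProper.of_comp r (CohB1.ProjSpace.toSpec n K)
  refine ⟨r, hr, AmpleEmb.isClosedImmersion_of_charts r fun x => ?_, ⟨τ⟩⟩
  obtain ⟨i, hx, hU, hclo⟩ := hs x
  obtain ⟨j, hji⟩ := hs' i
  have hX : ∀ l, MvPolynomial.X l ∈ CohB1.polyGrading n K 1 := MvPolynomial.isHomogeneous_X K
  let D : Fin (n + 1) → (CohB1.ProjSpace n K).Opens := fun l => Proj.basicOpen (CohB1.polyGrading n K) (MvPolynomial.X l)
  have hU' : CohB1.genLocus N (homOf (s i)) = r ⁻¹ᵁ D j := by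
    rw [← hji, ← hτ j, ProjMor.homOf_app, TMul.genLocus_comp]
    exact ProjMor.genLocus_pull1 (ProjMor.genDegOne_projSpace n K) r (hX j)
  refine ⟨j, hU'.le hx, hU' ▸ hU, ?_⟩
  suffices ∀ (U : Y.Opens) (_ : U = CohB1.genLocus N (homOf (s i))) (h1 : U ≤ r ⁻¹ᵁ D j),
      Function.Surjective (ev r (D j) U h1) from this _ hU'.symm le_rfl
  rintro U rfl h1
  rw [← RingHom.range_eq_top, eq_top_iff, ← hclo, Subring.closure_le]
  rintro z (⟨a, rfl⟩ | ⟨l₀, hk⟩)
  · obtain ⟨c, rfl⟩ := (ConcreteCategory.bijective_of_isIso (Scheme.ΓSpecIso (CommRingCat.of K)).inv).2 a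
    refine ⟨GrT.deh (CohB1.polyGrading n K) (hX j) (algebraMap K _ c), ?_⟩
    refine (ProjMor.ev_deh_algebraMap (CohB1.polyGrading n K) r (show r ≫ ProjMor.base _ = q from hr) (hX j) h1 c).trans ?_
    rw [show ProjUP.toGlobal q c = q.appTop ((Scheme.ΓSpecIso (CommRingCat.of K)).inv c) from rfl]
    refine Eq.symm ?_
    rw [← ProjMor.ev_res q (le_refl ⊤) le_top]
    refine congrArg (resO Y le_top) ?_
    exact congrArg (fun f => (CommRingCat.Hom.hom f) ((Scheme.ΓSpecIso (CommRingCat.of K)).inv c))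
      (Scheme.Hom.appLE_eq_app q)
  · obtain ⟨l, hl⟩ := hs' l₀
    refine ⟨GrT.deh (CohB1.polyGrading n K) (hX j) (MvPolynomial.X l), ?_⟩
    have e1 : ∀ a, τ.hom.app ⊤ (ProjMor.pull1 r (hX a)) = s' a := hτ
    let U₀ := CohB1.genLocus N (homOf (s i))
    have h3 := ((app_res τ.hom (le_top : U₀ ≤ ⊤) (ProjMor.pull1 r (hX l))).trans (congrArg (τ.hom.app U₀)
      (ProjMor.res_pull1 r (hX j) (hX l) h1))).trans (TMul.app_smul _ _ _)
    have h4 := h3.trans (congrArg (fun t : Γ(N, U₀) =>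
      ev r _ U₀ h1 (GrT.deh (CohB1.polyGrading n K) (hX j) (MvPolynomial.X l)) • t)
      (app_res τ.hom (le_top : U₀ ≤ ⊤) (ProjMor.pull1 r (hX j))).symm)
    rw [e1, e1, hji, hl] at h4
    have hg := TMul.isGen_genLocus (homOf (s i)) _ le_rfl
    refine hg.1 ?_
    change _ • res N le_rfl _ = z • res N le_rfl _
    rw [Groth.Agent.QC.res_self, val_homOf]
    exact h4.symm.trans hk.symm

end Charts

variable {k : Type u} [Field k] {Y : Over (Spec (CommRingCat.of k))} [GrpObj Y] [IsProper Y.hom]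
  [GeometricallyIntegral Y.hom] [IsCommMonObj Y]

/-- The inverse image of a twist along a morphism to projective space. -/
theorem nonempty_pull_twist {n : ℕ} (f : Y.left ⟶ CohB1.ProjSpace n k) {P : Y.left.Modules}
    (e : (Scheme.Modules.pullback f).obj (Twist.twistProjSpace n k 1) ≅ P) (j : ℕ) :
    Nonempty ((Scheme.Modules.pullback f).obj (Twist.twistProjSpace n k (j : ℤ)) ≅ CohB1.tensorPow P j) := by
  obtain ⟨e1⟩ := Intersect.nonempty_twist_pow k n j
  obtain ⟨e2⟩ := TMul.nonempty_pullPowIso f (Twist.twistProjSpace n k 1) j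
  obtain ⟨e3⟩ := TMul.nonempty_powCongr e j
  exact ⟨(Scheme.Modules.pullback f).mapIso e1 ≪≫ e2.symm ≪≫ e3⟩

/-- Direct images of the structure sheaf along finite morphisms given by a multiple of an ample class
are regular. -/
theorem push_regular {g : ℕ} (hg : topologicalKrullDim Y.left = (g : WithBot ℕ∞)) {M : Y.left.Modules}
    (hM : CohB1.IsAmple M) {n : ℕ} (f : Y.left ⟶ CohB1.ProjSpace n k) [IsFinite f]
    (hf : f ≫ CohB1.ProjSpace.toSpec n k = Y.hom) {P : Y.left.Modules} (hP : CohB1.IsAmple P)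
    (e : (Scheme.Modules.pullback f).obj (Twist.twistProjSpace n k 1) ≅ P) {a : ℕ}
    (hc : PicGrp.cls P hP.1 = PicGrp.cls M hM.1 ^ a) :
    Coh.IsCoh ((Scheme.Modules.pushforward f).obj (Coh.structureModule Y.left)) ∧
      Curv2.IsMRegular k n ((Scheme.Modules.pushforward f).obj (Coh.structureModule Y.left)) ((n + 1 : ℕ) : ℤ) ∧
      CurveRR.h k (CohB1.tensorMod ((Scheme.Modules.pushforward f).obj (Coh.structureModule Y.left))
        (Twist.twistProjSpace n k ((n + 1 : ℕ) : ℤ))) 0 = (a * (n + 1)) ^ g * CurveRR.h k M 0 := by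
  haveI : (Coh.structureModule Y.left).IsQuasicoherent := Groth.Agent.QC.isQCoh_unit Y.left
  have hi : f ≫ (CohB1.ProjSpace n k ↘ Spec (CommRingCat.of k)) = Y.left ↘ Spec (CommRingCat.of k) := hf
  have hiso : ∀ j : ℕ, Nonempty (CohB1.tensorMod (Coh.structureModule Y.left)
      ((Scheme.Modules.pullback f).obj (Twist.twistProjSpace n k (j : ℤ))) ≅ CohB1.tensorPow P j) := fun j => by
    obtain ⟨e'⟩ := nonempty_pull_twist f e j
    exact ⟨TMul.leftUnitIso _ ≪≫ e'⟩
  refine ⟨Groth.Agent.QC.isCoh_pushforward_of_isFinite f (TMul.isFT_structureModule _), fun i hi1 hin => ?_, ?_⟩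
  · rw [show ((n + 1 : ℕ) : ℤ) - (i : ℤ) = ((n + 1 - i : ℕ) : ℤ) by omega]
    obtain ⟨h⟩ := SerrePn.nonempty_hh_pushTwist k f hi (Coh.structureModule Y.left)
      (CohFinite.isInvertible_twist n k ((n + 1 - i : ℕ) : ℤ)) i
    obtain ⟨e'⟩ := hiso (n + 1 - i)
    haveI := hh_pos (Y := Y) (TMul.isAmple_tensorPow hP (n := n + 1 - i) (by omega)) i hi1
    haveI := CohQC.hh_subsingleton_of_iso e'.symm i inferInstance
    exact h.toEquiv.symm.subsingleton
  · obtain ⟨h⟩ := SerrePn.nonempty_hh_pushTwist k f hi (Coh.structureModule Y.left)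
      (CohFinite.isInvertible_twist n k ((n + 1 : ℕ) : ℤ)) 0
    obtain ⟨e'⟩ := hiso (n + 1)
    refine (h.finrank_eq.symm.trans (CurveRR.h_eq_of_iso e' 0)).trans
      (h0_pow hg hM (TMul.isAmple_tensorPow hP n.succ_pos) ?_)
    rw [AVDeg.cls_tensorPow hP.1, hc, ← pow_mul]

/-- The dimension of the uniform projective embedding. -/
def nE (g d : ℕ) : ℕ :=
  (2 ^ g * d + 1) * (2 ^ g * d + 1) + (2 ^ g * d + 1) * ((2 * (2 ^ g * d + 1)) ^ g * d)

/-- The number of sections in the regular degree. -/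
def bE (g d : ℕ) : ℕ := ((2 * (2 ^ g * d + 1) + 2) * (nE g d + 1)) ^ g * d

/-- The morphism of the square of an ample class is finite. -/
theorem exists_finite_sq {M : Y.left.Modules} (hM : CohB1.IsAmple M)
    (hN : CohB1.IsAmple (CohB1.tensorMod M M)) {n : ℕ} (hn : CurveRR.h k (CohB1.tensorMod M M) 0 = n) :
    ∃ (f : Y.left ⟶ CohB1.ProjSpace n k) (τ : (Scheme.Modules.pullback f).obj (Twist.twistProjSpace n k 1) ≅
      CohB1.tensorMod M M) (s : Fin (n + 1) → Γ(CohB1.tensorMod M M, ⊤)),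
      f ≫ CohB1.ProjSpace.toSpec n k = Y.hom ∧ IsFinite f ∧
      (∀ i, τ.hom.app ⊤ (ProjUP.pullSec f (Twist.twistProjSpace n k 1) (ProjUP.coord n k i)) = s i) ∧
      ∀ x : Y.left, ∃ i, x ∈ CohB1.genLocus _ (homOf (s i)) := by
  subst hn
  haveI : IsProper (Y.left ↘ Spec (CommRingCat.of k)) := inferInstanceAs (IsProper Y.hom)
  haveI := CurveRR.isNoetherian_of_proper k Y.left
  obtain ⟨B, hB⟩ := exists_span_sections k ⟨TMul.isQCoh_of_isInvertible hN.1, TMul.isFT_of_isInvertible hN.1⟩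
  let s : Fin (CurveRR.h k (CohB1.tensorMod M M) 0 + 1) → ProjUP.Γm (CohB1.tensorMod M M) :=
    Fin.cons (0 : Γ(CohB1.tensorMod M M, ⊤)) B
  have hcov : ∀ x : Y.left, ∃ i, x ∈ CohB1.genLocus _ (homOf (s i)) := fun x => by
    obtain ⟨t, ht⟩ := gen_sq hM x
    obtain ⟨a, ha⟩ := hB (val t ⊤)
    let σ : Fin (CurveRR.h k (CohB1.tensorMod M M) 0) → (Coh.structureModule Y.left ⟶ CohB1.tensorMod M M) :=
      fun b => homOf (L := Coh.structureModule Y.left) (Coh.toGlobal (Y.left ↘ Spec (CommRingCat.of k)) (a b)) ≫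
        homOf (B b)
    have hsum : t = ∑ b, σ b := by
      refine TMul.hom_ext_val ?_
      rw [TMul.val_sum, ha]
      refine Finset.sum_congr rfl fun b _ => ?_
      rw [TMul.val_homOf_comp, val_homOf, res_self]
      congr 1
      exact (Groth.Agent.QC.resO_self _ _).symm
    rw [hsum] at ht
    obtain ⟨b, hb⟩ := Opens.mem_iSup.1 (TMul.genLocus_sum_le σ hN.1 ht)
    refine ⟨b.succ, ?_⟩
    simp only [s, Fin.cons_succ]
    exact AmpleDesc.mem_genLocus_of_comp hN.1 _ _ hb
  obtain ⟨f, hf, τ, hτ⟩ := ProjMor.exists_projSpace (R := k) Y.hom hN.1 s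
    (ProjMor.generatedBy_of_mem_genLocus s hcov)
  refine ⟨f, τ, s, hf, IsFinite.iff_isProper_and_isAffineHom.mpr ⟨?_, ?_⟩, hτ, hcov⟩
  · have := ProjMor.isProper_toSpec (CurveRR.h k (CohB1.tensorMod M M) 0) k
    have : IsProper (f ≫ CohB1.ProjSpace.toSpec _ k) := by rw [hf]; infer_instance
    exact IsProper.of_comp f (CohB1.ProjSpace.toSpec _ k)
  · refine isAffineHom_of_forall_exists_isAffineOpen f fun x => ?_
    obtain ⟨i, hi⟩ := Opens.mem_iSup.1 ((Groth.Agent.S9576.result _ k).1.ge (trivial : x ∈ ⊤))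
    refine ⟨_, hi, ProjLib.isAffineOpen_basicOpen _ (MvPolynomial.isHomogeneous_X k i) one_pos, ?_⟩
    have e : CohB1.genLocus _ (homOf (s i)) = f ⁻¹ᵁ Proj.basicOpen (CohB1.polyGrading _ k) (MvPolynomial.X i) := by
      rw [← hτ i, ProjMor.homOf_app, TMul.genLocus_comp]
      exact ProjMor.genLocus_pull1 (ProjMor.genDegOne_projSpace _ k) f (MvPolynomial.isHomogeneous_X k i)
    exact e ▸ TMul.isAffineOpen_genLocus_of_universallyClosed Y.hom hN _

/-- **Uniform embedding.**  A polarised abelian variety sits in a projective space of dimension bounded by the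
polarisation degree, with direct image of fixed regularity and fixed number of sections. -/
theorem exists_embed {g : ℕ} (hg : topologicalKrullDim Y.left = (g : WithBot ℕ∞)) {M : Y.left.Modules}
    (hM : CohB1.IsAmple M) {d : ℕ} (hd : CurveRR.h k M 0 = d) :
    ∃ r : Y.left ⟶ CohB1.ProjSpace (nE g d) k, r ≫ CohB1.ProjSpace.toSpec (nE g d) k = Y.hom ∧
      IsClosedImmersion r ∧
      Coh.IsCoh ((Scheme.Modules.pushforward r).obj (Coh.structureModule Y.left)) ∧
      Curv2.IsMRegular k (nE g d) ((Scheme.Modules.pushforward r).obj (Coh.structureModule Y.left))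
        ((nE g d + 1 : ℕ) : ℤ) ∧
      CurveRR.h k (CohB1.tensorMod ((Scheme.Modules.pushforward r).obj (Coh.structureModule Y.left))
        (Twist.twistProjSpace (nE g d) k ((nE g d + 1 : ℕ) : ℤ))) 0 = bE g d := by
  haveI : IsProper (Y.left ↘ Spec (CommRingCat.of k)) := inferInstanceAs (IsProper Y.hom)
  haveI := CurveRR.isNoetherian_of_proper k Y.left
  let N := CohB1.tensorMod M M
  let n := 2 ^ g * d
  have hN : CohB1.IsAmple N := TMul.isAmple_tensorMod hM hM.1 fun x => by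
    obtain ⟨a, s, hs, -⟩ := hM.2.2 x
    exact ⟨a, s, hs⟩
  have hcN : PicGrp.cls N hN.1 = PicGrp.cls M hM.1 ^ 2 := by
    rw [AVDeg.cls_tensorMod hM.1 hM.1, pow_two]
  obtain ⟨f, τ, s, hf, hfin, hτ, hcov⟩ := exists_finite_sq hM hN (n := n) (by rw [h0_pow hg hM hN hcN, hd])
  haveI := hfin
  obtain ⟨hGc, hGr, -⟩ := push_regular hg hM f hf hN τ hcN
  let P := CohB1.tensorPow N (n + 1)
  have hP : PicF.IsInvertible P := TMul.isInvertible_tensorPow hN.1 _
  have hPa : CohB1.IsAmple P := TMul.isAmple_tensorPow hN n.succ_pos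
  have hcP : PicGrp.cls P hPa.1 = PicGrp.cls M hM.1 ^ (2 * (n + 1)) := by
    rw [AVDeg.cls_tensorPow hN.1, hcN, ← pow_mul]
  haveI : IsNoetherian (CohB1.ProjSpace n k) := CohFinite.isNoetherian_projSpace n k
  have hPgg : Curv2.IsGloballyGenerated ((Scheme.Modules.pushforward f).obj P) := by
    obtain ⟨I, p, hp⟩ := SerrePn.isGloballyGenerated_twist _ hGc _ hGr
    obtain ⟨e⟩ := SerrePn.nonempty_pushTwist f (Coh.structureModule Y.left)
      (CohFinite.isInvertible_twist n k ((n + 1 : ℕ) : ℤ))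
    obtain ⟨e'⟩ := nonempty_pull_twist f τ (n + 1)
    let E := e ≪≫ (Scheme.Modules.pushforward f).mapIso (TMul.leftUnitIso _ ≪≫ e')
    haveI := hp
    exact ⟨I, p ≫ E.hom, epi_comp _ _⟩
  have hPc : Coh.IsCoh ((Scheme.Modules.pushforward f).obj P) := by
    haveI := TMul.isQCoh_of_isInvertible hP
    exact Groth.Agent.QC.isCoh_pushforward_of_isFinite f (TMul.isFT_of_isInvertible hP)
  let c := (2 * (n + 1)) ^ g * d
  obtain ⟨B₀, hB₀⟩ := exists_span_sections k ⟨TMul.isQCoh_of_isInvertible hP, TMul.isFT_of_isInvertible hP⟩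
  have hc : CurveRR.h k P 0 = c := by rw [h0_pow hg hM hPa hcP, hd]
  let B : Fin c → Γ(P, ⊤) := fun b => B₀ (b.cast hc.symm)
  have hB : ∀ z : Γ(P, ⊤), ∃ a : Fin c → k,
      z = ∑ b, (show Γ(Y.left, ⊤) from Coh.toGlobal (Y.left ↘ Spec (CommRingCat.of k)) (a b)) • B b := fun z => by
    obtain ⟨a, ha⟩ := hB₀ z
    refine ⟨fun b => a (b.cast hc.symm), ha.trans ?_⟩
    exact (Equiv.sum_comp (finCongr hc.symm) fun b =>
      (show Γ(Y.left, ⊤) from Coh.toGlobal (Y.left ↘ Spec (CommRingCat.of k)) (a b)) • B₀ b).symm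
  let t : Fin (n + 1) → Γ(P, ⊤) := fun j => val (SecTwist.powHom (homOf (s j)) (n + 1)) ⊤
  let Q := CohB1.tensorPow N (n + 2)
  let σ : (Fin (n + 1) × Fin (n + 1)) ⊕ (Fin (n + 1) × Fin c) → Γ(Q, ⊤) :=
    Sum.elim (fun ij => tm (M := P) (N := N) (t ij.2) (s ij.1)) fun jb => tm (M := P) (N := N) (B jb.2) (s jb.1)
  have hX : ∀ l, MvPolynomial.X l ∈ CohB1.polyGrading n k 1 := MvPolynomial.isHomogeneous_X k
  let D : Fin (n + 1) → (CohB1.ProjSpace n k).Opens := fun l => Proj.basicOpen (CohB1.polyGrading n k) (MvPolynomial.X l)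
  have hD : ∀ j, CohB1.genLocus N (homOf (s j)) = f ⁻¹ᵁ D j := fun j => by
    rw [← hτ j, ProjMor.homOf_app, TMul.genLocus_comp]
    exact ProjMor.genLocus_pull1 (ProjMor.genDegOne_projSpace n k) f (hX j)
  have hσ : ∀ j, CohB1.genLocus Q (homOf (σ (Sum.inl (j, j)))) = f ⁻¹ᵁ D j := fun j => by
    have e : homOf (σ (Sum.inl (j, j))) = SecTwist.tmulHom (SecTwist.powHom (homOf (s j)) (n + 1)) (homOf (s j)) := by
      refine TMul.hom_ext_val ?_
      rw [val_homOf, TMul.val_tmulHom, val_homOf, res_self, res_self]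
      rfl
    rw [e]
    refine (TMul.genLocus_tmulHom (TMul.isInvertible_tensorPow hN.1 (n + 1)) hN.1 _ _).trans ?_
    rw [TMul.genLocus_powHom hN.1, inf_idem, hD]
  have hQa : CohB1.IsAmple Q := TMul.isAmple_tensorPow hN (n + 1).succ_pos
  have hcQ : PicGrp.cls Q hQa.1 = PicGrp.cls M hM.1 ^ (2 * (n + 1) + 2) := by
    rw [AVDeg.cls_tensorPow hN.1, hcN, ← pow_mul]
    congr 1
  obtain ⟨r, hr, hrc, ⟨τ'⟩⟩ := exists_closed_of_charts (K := k) Y.hom hQa.1 σ (n := nE g d)
    (by simp [nE, n, c]) fun x => by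
    obtain ⟨j, hj⟩ := hcov x
    rw [hD] at hj
    refine ⟨Sum.inl (j, j), (hσ j).ge hj, (by
      rw [hσ j]
      exact IsAffineHom.isAffine_preimage _ (ProjLib.isAffineOpen_basicOpen _ (hX j) one_pos)), ?_⟩
    suffices ∀ (U : Y.left.Opens), U = f ⁻¹ᵁ D j →
        Subring.closure (Set.range (ev Y.hom ⊤ U le_top) ∪
          {z | ∃ l, z • res Q (le_top : U ≤ ⊤) (σ (Sum.inl (j, j))) = res Q (le_top : U ≤ ⊤) (σ l)}) = ⊤ from
      this _ (hσ j)
    rintro U rfl
    set U := f ⁻¹ᵁ D j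
    set S := Subring.closure (Set.range (ev Y.hom ⊤ U le_top) ∪
      {z | ∃ l, z • res Q (le_top : U ≤ ⊤) (σ (Sum.inl (j, j))) = res Q (le_top : U ≤ ⊤) (σ l)}) with hS
    have hσres : res Q (le_top : U ≤ ⊤) (σ (Sum.inl (j, j))) =
        tm (res P (le_top : U ≤ ⊤) (t j)) (res N (le_top : U ≤ ⊤) (s j)) := res_tm (le_top : U ≤ ⊤) (t j) (s j)
    have hconst : ∀ a : k, resO Y.left (le_top : U ≤ ⊤) (ProjUP.toGlobal Y.hom a) ∈ S := fun a => by
      refine Subring.subset_closure (Or.inl ⟨(Scheme.ΓSpecIso (CommRingCat.of k)).inv a, ?_⟩)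
      rw [← ProjMor.ev_res Y.hom (le_refl ⊤) le_top]
      refine congrArg (resO Y.left le_top) ?_
      exact congrArg (fun φ => (CommRingCat.Hom.hom φ) ((Scheme.ΓSpecIso (CommRingCat.of k)).inv a))
        (Scheme.Hom.appLE_eq_app Y.hom)
    have hcoord : ∀ l, ev f (D j) U le_rfl (GrT.deh (CohB1.polyGrading n k) (hX j) (MvPolynomial.X l)) •
        res N (le_top : U ≤ ⊤) (s j) = res N (le_top : U ≤ ⊤) (s l) := fun l => by
      have h3 := ((app_res τ.hom (le_top : U ≤ ⊤) (ProjMor.pull1 f (hX l))).trans (congrArg (τ.hom.app U)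
        (ProjMor.res_pull1 f (hX j) (hX l) (le_refl U)))).trans (TMul.app_smul _ _ _)
      have h4 := h3.trans (congrArg (fun z : Γ(N, U) =>
        ev f (D j) U le_rfl (GrT.deh (CohB1.polyGrading n k) (hX j) (MvPolynomial.X l)) • z)
        (app_res τ.hom (le_top : U ≤ ⊤) (ProjMor.pull1 f (hX j))).symm)
      have e1 : ∀ a, τ.hom.app ⊤ (ProjMor.pull1 f (hX a)) = s a := hτ
      rw [e1, e1] at h4
      exact h4.symm
    have hdeh : ∀ a, ev f (D j) U le_rfl (GrT.deh (CohB1.polyGrading n k) (hX j) a) ∈ S := fun a => by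
      induction a using MvPolynomial.induction_on with
      | C a =>
        exact Eq.mpr (congrArg (· ∈ S) (ProjMor.ev_deh_algebraMap (CohB1.polyGrading n k) f
          (show f ≫ ProjMor.base _ = Y.hom from hf) (hX j) (le_refl U) a)) (hconst a)
      | add p q hp hq => rw [map_add, map_add]; exact Subring.add_mem _ hp hq
      | mul_X p l hp =>
        rw [map_mul, map_mul]
        refine Subring.mul_mem _ hp (Subring.subset_closure (Or.inr ⟨Sum.inl (l, j), ?_⟩))
        rw [hσres, ← tm_smul, hcoord, ← res_tm]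
        rfl
    have hgt : IsGen (res P (le_top : U ≤ ⊤) (t j)) := by
      have := (TMul.isGen_genLocus (SecTwist.powHom (homOf (s j)) (n + 1))).res
        (show U ≤ CohB1.genLocus _ (SecTwist.powHom (homOf (s j)) (n + 1)) by
          rw [TMul.genLocus_powHom hN.1, hD])
      rw [res_val] at this
      rw [show res P (le_top : U ≤ ⊤) (t j) = val (SecTwist.powHom (homOf (s j)) (n + 1)) U from res_val _ _]
      exact this
    have hbasis : ∀ b, ∃ r₀ ∈ S, r₀ • res P (le_top : U ≤ ⊤) (t j) = res P (le_top : U ≤ ⊤) (B b) := fun b => by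
      obtain ⟨r₀, hr₀⟩ := (hgt U le_rfl).2 (res P (le_top : U ≤ ⊤) (B b))
      simp only [res_self] at hr₀
      refine ⟨r₀, Subring.subset_closure (Or.inr ⟨Sum.inr (j, b), ?_⟩), hr₀⟩
      rw [hσres, ← smul_tm, hr₀, ← res_tm]
      rfl
    refine eq_top_iff.2 fun z _ => ?_
    obtain ⟨z', hz', hzz⟩ := push_span f P hPc hPgg (D := D j) (ProjLib.isAffineOpen_basicOpen _ (hX j) one_pos)
      (fun y => ∃ z' ∈ S, z' • res P (le_top : U ≤ ⊤) (t j) = y) ⟨0, Subring.zero_mem _, zero_smul _ _⟩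
      (fun a b ⟨za, ha, hza⟩ ⟨zb, hb, hzb⟩ => ⟨za + zb, Subring.add_mem _ ha hb, by rw [add_smul, hza, hzb]⟩)
      (fun c₀ t₀ => by
        obtain ⟨a, rfl⟩ := hB t₀
        choose r₀ hr₀S hr₀ using hbasis
        obtain ⟨p, hp⟩ := ProjMor.exists_deh_eq (hX j) c₀
        refine ⟨ev f (D j) U le_rfl c₀ * ∑ b, resO Y.left (le_top : U ≤ ⊤)
          (Coh.toGlobal (Y.left ↘ Spec (CommRingCat.of k)) (a b)) * r₀ b, Subring.mul_mem _ (hp ▸ hdeh p)
          (Subring.sum_mem _ fun b _ => Subring.mul_mem _ (hconst (a b)) (hr₀S b)), ?_⟩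
        rw [mul_smul, map_sum, Finset.sum_smul]
        refine congrArg _ (Finset.sum_congr rfl fun b _ => ?_)
        rw [mul_smul, hr₀, res_smul])
      (z • res P (le_top : U ≤ ⊤) (t j))
    have : z' = z := (hgt U le_rfl).1 (by simp only [res_self]; exact hzz)
    exact this ▸ hz'
  haveI := hrc
  obtain ⟨h1, h2, h3⟩ := push_regular hg hM r hr hQa τ' hcQ
  refine ⟨r, hr, hrc, h1, h2, ?_⟩
  rw [h3, hd, bE]

end Groth.Agent.AVFin
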