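import Groth.Agent.AVFin.Embed
import Groth.Agent.PicBdd.Resolve

/-!
# Finitely many polarised abelian varieties of given dimension and degree over a finite field
-/

set_option autoImplicit false
set_option backward.isDefEq.respectTransparency false
set_option backward.isDefEq.respectTransparency.types false
set_option linter.style.haveILetI false
set_option linter.unusedSectionVars false
set_option maxHeartbeats 1000000

universe u

open CategoryTheory CategoryTheory.Limits MonoidalCategory CartesianMonoidalCategory MonObj GrpObj AlgebraicGeometry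
open TopologicalSpace Opposite

noncomputable section

namespace Groth.Agent.AVFin

attribute [local instance] Abelian.hasFiniteBiproducts

section Coherent

variable (k : Type u) [Field k] [Finite k] (n : ℕ)

/-- Over a finite field there are finitely many regular coherent modules with a given number of sections. -/
theorem finite_regular (m : ℤ) (b : ℕ) :
    ∃ (J : Type u) (_ : Finite J) (F : J → (CohB1.ProjSpace n k).Modules),
      ∀ G : (CohB1.ProjSpace n k).Modules, Coh.IsCoh G → Curv2.IsMRegular k n G m →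
        CurveRR.h k (CohB1.tensorMod G (Twist.twistProjSpace n k m)) 0 = b → ∃ j, Nonempty (F j ≅ G) := by
  classical
  let O := Twist.twistProjSpace n k
  haveI : IsNoetherian (CohB1.ProjSpace n k) := CohFinite.isNoetherian_projSpace n k
  obtain ⟨C, hC⟩ := PicBdd.exists_presentation (k := k) (n := n) m b
  obtain ⟨j₀⟩ := GrT.nonempty_twist_zero_iso (𝒜 := CohB1.polyGrading n k)
  obtain ⟨i'⟩ := RegCx.twist_twist (k := k) (n := n) (m + 1) (-(m + 1)) 0 (by ring)
  have hG : Coh.IsCoh (∐ fun _ : Fin b => O (-m)) :=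
    CohFinite.isCoh_of_iso (biproduct.isoCoproduct _)
      (Devissage.isCoh_biproduct _ fun _ => CohFinite.isCoh_twist n k (-m))
  obtain ⟨N, h, hh⟩ := PicBdd.exists_hom_span (L := O (-(m + 1))) (L' := O (m + 1))
    (CohFinite.isInvertible_twist n k (m + 1)) (i' ≪≫ j₀) hG
  let H : (Fin C → Fin N → k) → ((∐ fun _ : Fin C => O (-(m + 1))) ⟶ ∐ fun _ : Fin b => O (-m)) :=
    fun a => Sigma.desc fun e => ∑ t, a e t • h t
  refine ⟨ULift.{u} (Fin C → Fin N → k), inferInstance, fun a => cokernel (H a.down), fun G hGc hreg hb => ?_⟩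
  obtain ⟨ψ, ⟨e⟩⟩ := hC G hGc hreg hb
  choose a ha using fun t : Fin C => hh (Sigma.ι (fun _ : Fin C => O (-(m + 1))) t ≫ ψ)
  have : H a = ψ := Sigma.hom_ext _ _ fun t => by
    rw [ha t]
    exact Sigma.ι_desc _ t
  exact ⟨⟨a⟩, ⟨eqToIso (congrArg (fun φ => cokernel φ) this) ≪≫ e⟩⟩

end Coherent

section Immersions

variable {P Y Y' : Scheme.{u}}

/-- The annihilator of a pushed forward structure sheaf. -/
theorem ker_le_of_push_iso (i : Y ⟶ P) (i' : Y' ⟶ P) [IsClosedImmersion i] [IsClosedImmersion i']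
    (φ : (Scheme.Modules.pushforward i).obj (Coh.structureModule Y) ≅
      (Scheme.Modules.pushforward i').obj (Coh.structureModule Y')) : i.ker ≤ i'.ker := by
  intro U c hc
  rw [Scheme.Hom.ker_apply, RingHom.mem_ker] at hc ⊢
  let G := (Scheme.Modules.pushforward i).obj (Coh.structureModule Y)
  let G' := (Scheme.Modules.pushforward i').obj (Coh.structureModule Y')
  obtain ⟨w, hw⟩ := (ConcreteCategory.bijective_of_isIso (φ.hom.app U.1)).2
    (show Γ(G', U.1) from (1 : Γ(Y', i' ⁻¹ᵁ U.1)))
  have h0 : c • w = 0 := by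
    show HMul.hMul (α := Γ(Y, i ⁻¹ᵁ U.1)) ((i.app U.1).hom c) (show Γ(Y, i ⁻¹ᵁ U.1) from w) = 0
    rw [hc, zero_mul]
  have h1 := congrArg (φ.hom.app U.1) h0
  rw [TMul.app_smul, hw, map_zero] at h1
  have h2 : HMul.hMul (α := Γ(Y', i' ⁻¹ᵁ U.1)) ((i'.app U.1).hom c) (1 : Γ(Y', i' ⁻¹ᵁ U.1)) = 0 := h1
  rwa [_root_.mul_one] at h2

/-- Closed subschemes with isomorphic structure sheaves are isomorphic. -/
theorem exists_iso_of_push_iso (i : Y ⟶ P) (i' : Y' ⟶ P) [IsClosedImmersion i] [IsClosedImmersion i']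
    (φ : (Scheme.Modules.pushforward i).obj (Coh.structureModule Y) ≅
      (Scheme.Modules.pushforward i').obj (Coh.structureModule Y')) : ∃ e : Y ≅ Y', e.hom ≫ i' = i := by
  let a := IsClosedImmersion.lift i' i (ker_le_of_push_iso i' i φ.symm)
  let b := IsClosedImmersion.lift i i' (ker_le_of_push_iso i i' φ)
  have ha : a ≫ i' = i := IsClosedImmersion.lift_fac _ _ _
  have hb : b ≫ i = i' := IsClosedImmersion.lift_fac _ _ _
  refine ⟨⟨a, b, ?_, ?_⟩, ha⟩
  · rw [← cancel_mono i, Category.assoc, hb, ha, Category.id_comp]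
  · rw [← cancel_mono i', Category.assoc, ha, hb, Category.id_comp]

end Immersions

attribute [local instance] W7Cube.law AVDeg.overInst

/-- **Finiteness over a finite field.**  There are finitely many abelian varieties, up to isomorphism of
schemes over the field, of given dimension with an ample module with a given number of sections. -/
theorem exists_finite_reps (k : Type u) [Field k] [Finite k] (g d : ℕ) :
    ∃ (J : Type u) (_ : Finite J) (F : J → Over (Spec (CommRingCat.of k))),
      ∀ (Y : Over (Spec (CommRingCat.of k))) [GrpObj Y] [IsProper Y.hom] [GeometricallyIntegral Y.hom]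
        [IsCommMonObj Y], topologicalKrullDim Y.left = (g : WithBot ℕ∞) → ∀ (M : Y.left.Modules),
        CohB1.IsAmple M → CurveRR.h k M 0 = d → ∃ j, Nonempty (Y ≅ F j) := by
  classical
  let n := nE g d
  obtain ⟨J, hJ, F, hF⟩ := finite_regular k n ((n + 1 : ℕ) : ℤ) (bE g d)
  let p : J → Over (Spec (CommRingCat.of k)) → Prop := fun j Z =>
    ∃ r : Z.left ⟶ CohB1.ProjSpace n k, r ≫ CohB1.ProjSpace.toSpec n k = Z.hom ∧ IsClosedImmersion r ∧
      Nonempty (F j ≅ (Scheme.Modules.pushforward r).obj (Coh.structureModule Z.left))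
  refine ⟨{j : J // ∃ Z, p j Z}, inferInstance, fun j => j.2.choose, fun Y _ _ _ _ hg M hM hd => ?_⟩
  obtain ⟨r, hr, hrc, hc, hreg, hb⟩ := exists_embed hg hM hd
  obtain ⟨j, ⟨e⟩⟩ := hF _ hc hreg hb
  have hp : p j Y := ⟨r, hr, hrc, ⟨e⟩⟩
  refine ⟨⟨j, Y, hp⟩, ?_⟩
  obtain ⟨r', hr', hrc', ⟨e'⟩⟩ := (⟨Y, hp⟩ : ∃ Z, p j Z).choose_spec
  haveI := hrc
  haveI := hrc'
  obtain ⟨φ, hφ⟩ := exists_iso_of_push_iso r r' (e.symm ≪≫ e')
  exact ⟨Over.isoMk φ (by rw [← hr', ← Category.assoc, hφ, hr])⟩

end Groth.Agent.AVFin
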