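import Groth.Agent.AVFin.DualAV
import Groth.Agent.AVFin.Finite
import Groth.Agent.AVEuler.Polar
import Groth.Agent.AVEuler.Smooth
import Groth.Agent.AVPoincare.Exists
import Groth.Agent.AgBC.PoincareBC
import Groth.Agent.AgBC.DualBC
import Groth.Agent.AVDeg.DegBC
import Groth.Agent.AgSymm.Lambda
import Groth.Agent.AmpleDesc.Basic
import Groth.Prelude.Def_AgPol

/-!
A polarised abelian variety over any field has an ample module with `2 ^ g d` sections.
-/

set_option autoImplicit false
set_option backward.isDefEq.respectTransparency false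
set_option backward.isDefEq.respectTransparency.types false
set_option linter.style.haveILetI false
set_option linter.unusedSectionVars false
set_option synthInstance.maxHeartbeats 200000
set_option maxHeartbeats 1000000

universe u

open CategoryTheory CategoryTheory.Limits MonoidalCategory CartesianMonoidalCategory MonObj GrpObj AlgebraicGeometry
open Groth.Agent.W7Cube (pull pull_pull pc pull_pc pc_id pc_one pull_cls)
open Groth.Agent.AbPrim (val pull_val)

noncomputable section

namespace Groth.Agent.AVFin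

attribute [local instance] W7Cube.law AVDeg.overInst

variable {k : Type u} [Field k]

/-- The class attached to `L` by the Mumford construction, from `IsLambda`. -/
theorem cls_eq_lam {A At : Over (Spec (CommRingCat.of k))} [GrpObj A] [GrpObj At]
    [IsProper A.hom] [Smooth A.hom] [GeometricallyConnected A.hom] [GeometricallyIntegral A.hom] [IsCommMonObj A]
    [IsProper At.hom] [Smooth At.hom] [GeometricallyConnected At.hom] [GeometricallyIntegral At.hom] [IsCommMonObj At]
    {φ : AgPol.DualMap A At} (hA : AbDual.IsDualAV Scheme.fppfPrecoverage A At φ) (Q : AgSymm.Poincare φ)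
    {L : A.left.Modules} (hL : PicF.IsInvertible L) {l : A ⟶ At} (h : AgPol.IsLambda A At φ L l) :
    φ A (AVMukai.lam (PicGrp.cls L hL) (fst A A) (snd A A)).1 = l ∧
      Q.cls l = AVMukai.lam (PicGrp.cls L hL) (fst A A) (snd A A) := by
  obtain ⟨N, hN, hs, hφ⟩ := h
  have hNc : PicGrp.cls (Y := (A ⊗ A).left) N hN = AVMukai.lam (PicGrp.cls L hL) (fst A A) (snd A A) := by
    obtain ⟨e⟩ := hs
    have h1 : PicGrp.cls (Y := (A ⊗ A).left) N hN * pc (PicGrp.cls L hL) (fst A A) *
        pc (PicGrp.cls L hL) (snd A A) = pc (PicGrp.cls L hL) μ[A] := by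
      rw [pc, pc, pc, pull_cls, pull_cls, pull_cls]
      refine Subtype.ext ?_
      rw [PicGrp.mul_val, PicGrp.cls_mul_cls_val]
      exact (PicGrp.cl_eq_cl_iff _ _).2 ⟨e⟩
    rw [AVMukai.lam, ← MonObj.mul_eq_mul A, ← h1]
    apply Additive.ofMul.injective
    simp only [ofMul_mul, ofMul_inv]
    abel
  have hl : φ A (AVMukai.lam (PicGrp.cls L hL) (fst A A) (snd A A)).1 = l := by rw [← hNc]; exact hφ
  refine ⟨hl, ?_⟩
  rw [← (AVEuler.exists_phi hA Q (PicGrp.cls L hL)).2, hl]
  exact (AVMukai.pull_whiskerLeft Q l).symm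

/-- **A polarisation gives an ample module with boundedly many sections.** -/
theorem exists_ample_of_polarization {B Bt : Over (Spec (CommRingCat.of k))}
    [GrpObj B] [IsProper B.hom] [GeometricallyIntegral B.hom] [IsCommMonObj B] [GrpObj Bt] [IsCommMonObj Bt]
    {φ : AgPol.DualMap B Bt} (hdual : AbDual.IsDualAV Scheme.fppfPrecoverage B Bt φ) {lam : B ⟶ Bt}
    (hpol : AgPol.IsPolarization B Bt φ lam) {d : ℕ} (hd : 1 ≤ d) (hdeg : AgPol.HasDegSq lam d)
    {g : ℕ} (hg : topologicalKrullDim B.left = (g : WithBot ℕ∞)) :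
    ∃ M : B.left.Modules, CohB1.IsAmple M ∧ CurveRR.h k M 0 = 2 ^ g * d := by
  haveI : IsMonHom lam := hpol.1
  obtain ⟨hfin, hflat, hfp, hrank⟩ := hdeg
  haveI := hfin
  haveI := hflat
  haveI hsurj : Surjective lam.left := Scheme.Hom.one_le_finrank_iff_surjective _ |>.1 fun y => by
    rw [hrank y]; exact Nat.one_le_pow _ _ hd
  obtain ⟨hBtp, hBti⟩ := isAV_target lam
  haveI := hBtp
  haveI := hBti
  haveI := AVEuler.smooth_av B
  haveI := AVEuler.connected_av B
  haveI := AVEuler.smooth_av Bt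
  haveI := AVEuler.connected_av Bt
  obtain ⟨P₀, hP₀, hξ⟩ := AVPoincare.exists_isPoincareCl hdual
  obtain ⟨Q, -⟩ := AgSymm.exists_poincare hξ
  obtain ⟨M, hM, hMc⟩ := PicGrp.exists_eq_cls (Q.graphCls lam)
  let K := AlgebraicClosure k
  let t := AVDeg.specMap k K
  let Y := Red.bc t B
  let Yt := Red.bc t Bt
  haveI : IsProper Y.hom := inferInstanceAs (IsProper (Limits.pullback.snd B.hom t))
  haveI : GeometricallyIntegral Y.hom := inferInstanceAs (GeometricallyIntegral (Limits.pullback.snd B.hom t))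
  haveI : IsProper Yt.hom := inferInstanceAs (IsProper (Limits.pullback.snd Bt.hom t))
  haveI : GeometricallyIntegral Yt.hom := inferInstanceAs (GeometricallyIntegral (Limits.pullback.snd Bt.hom t))
  haveI := AVEuler.smooth_av Y
  haveI := AVEuler.connected_av Y
  haveI := AVEuler.smooth_av Yt
  haveI := AVEuler.connected_av Yt
  haveI : IsCommMonObj Y := isCommMonObj_of_isProper_of_geometricallyIntegral Y
  haveI : IsCommMonObj Yt := isCommMonObj_of_isProper_of_geometricallyIntegral Yt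
  have hD := AgBC.isDualAV_bcDual t hdual
  let Q' := AgBC.poincareBC t hdual Q
  let l : Y ⟶ Yt := (Over.pullback t).map lam
  haveI : IsFinite l.left := MorphismProperty.of_isPullback (AVDeg.isPullback_bcMap K lam) hfin
  haveI : Flat l.left := MorphismProperty.of_isPullback (AVDeg.isPullback_bcMap K lam) hflat
  obtain ⟨L, hL, hΛ⟩ := hpol.2 K t
  obtain ⟨hφl, hcls⟩ := cls_eq_lam hD Q' hL.1 hΛ
  -- the pull back of the class
  have hpull : pull (pullback.fst B.hom t) (Q.graphCls lam) = val Q'.x (𝟙 Y) l := by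
    change _ = val (pull (AgBC.xtPr t B Bt) Q.x) (𝟙 Y) l
    rw [AgBC.val_pull_xtPr, AgBC.toDn_id, AgSymm.Poincare.graphCls]
    have e : AgBC.toDn t l = AgBC.prD t B ≫ lam := by
      apply Over.OverMorphism.ext
      rw [AgBC.toDn_left, Over.comp_left]
      exact pullback.lift_fst _ _ _
    rw [e]
    exact (pull_val Q.x (AgBC.prD t B) (𝟙 B) lam).trans (by rw [Category.comp_id])
  have hdiag : val Q'.x (𝟙 Y) l = PicGrp.cls L hL.1 * pc (PicGrp.cls L hL.1) (𝟙 Y)⁻¹ := by
    have e : val (Q'.cls l) (𝟙 Y) (𝟙 Y) = val Q'.x (𝟙 Y) l := by rw [Q'.val_cls, Category.id_comp]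
    rw [← e, hcls, val, AVMukai.pull_lam, lift_fst, lift_snd, AVMukai.lam, pc_id, ← pow_two (𝟙 Y), W7Cube.pc_pow]
    show PicGrp.cls L hL.1 ^ (2 * (2 + 1) / 2) * pc (PicGrp.cls L hL.1) (𝟙 Y)⁻¹ ^ (2 * (2 - 1) / 2) * _ * _ = _
    norm_num
    apply Additive.ofMul.injective
    simp only [ofMul_mul, ofMul_inv, ofMul_pow]
    abel
  -- ampleness
  let g' : Y.left ⟶ B.left := pullback.fst B.hom t
  have hinv : IsIso ((𝟙 Y)⁻¹ : Y ⟶ Y).left := ⟨((𝟙 Y)⁻¹ : Y ⟶ Y).left, by
    constructor <;> rw [← Over.comp_left, GrpObj.comp_inv, Category.comp_id, _root_.inv_inv, Over.id_left]⟩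
  haveI := hinv
  let T := CohB1.tensorMod L ((Scheme.Modules.pullback ((𝟙 Y)⁻¹ : Y ⟶ Y).left).obj L)
  have hT : CohB1.IsAmple T := TMul.isAmple_tensorMod hL (PicLoc.isInvertible_pullback _ hL.1) fun x => by
    obtain ⟨n, t, ht, -⟩ := (TMul.isAmple_pullback_of_isAffineHom ((𝟙 Y)⁻¹ : Y ⟶ Y).left hL).2.2 x
    exact ⟨n, t, ht⟩
  have hMT : PicGrp.cls _ (PicLoc.isInvertible_pullback g' hM) = PicGrp.cls T hT.1 := by
    rw [← pull_cls g' M hM, ← hMc]
    refine (show pull g' (Q.graphCls lam) = _ from hpull).trans ?_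
    rw [hdiag]
    refine Eq.trans ?_ (AVDeg.cls_tensorMod hL.1 (TMul.isAmple_pullback_of_isAffineHom _ hL).1).symm
    rw [pc, pull_cls]
  obtain ⟨eMT⟩ := (PicGrp.cls_eq_cls_iff _ _).1 hMT
  have hM' : CohB1.IsAmple ((Scheme.Modules.pullback g').obj M) := TMul.isAmple_congr eMT.symm hT
  haveI : Surjective t := by
    haveI : Subsingleton (Spec (CommRingCat.of k)) := inferInstanceAs (Subsingleton (PrimeSpectrum k))
    haveI : Nonempty (Spec (CommRingCat.of K)) := inferInstanceAs (Nonempty (PrimeSpectrum K))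
    exact ⟨Function.surjective_to_subsingleton _⟩
  haveI : Flat t := by
    exact (HasRingHomProperty.Spec_iff (P := @Flat)).2 (RingHom.flat_algebraMap_iff.2 inferInstance)
  have hAmp : CohB1.IsAmple M :=
    AmpleDesc.isAmple_of_pullback (IsPullback.of_hasPullback B.hom t) hM hM'
  refine ⟨M, hAmp, ?_⟩
  -- the number of sections
  have hgY : topologicalKrullDim Y.left = (g : WithBot ℕ∞) := (AVDeg.topologicalKrullDim_bcK (A := B) K).trans hg
  haveI : IsFinite (AgPol.bcDual t B Bt φ Y (AVMukai.lam (PicGrp.cls L hL.1) (fst Y Y) (snd Y Y)).1).left := by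
    rw [hφl]; infer_instance
  haveI : Flat (AgPol.bcDual t B Bt φ Y (AVMukai.lam (PicGrp.cls L hL.1) (fst Y Y) (snd Y Y)).1).left := by
    rw [hφl]; infer_instance
  have hsq : AVEuler.χc (PicGrp.cls L hL.1) ^ 2 = ((d ^ 2 : ℕ) : ℤ) :=
    AVEuler.χc_sq hD Q' (PicGrp.cls L hL.1) (d ^ 2) fun y => by
      rw [hφl, Scheme.Hom.finrank_of_isPullback _ _ _ _ (AVDeg.isPullback_bcMap K lam) y, hrank]
  have hh : (CurveRR.h k M 0 : ℤ) = AVEuler.χc (PicGrp.cls L hL.1 * pc (PicGrp.cls L hL.1) (𝟙 Y)⁻¹) := by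
    rw [← hdiag, ← hpull, hMc, pull_cls, AVEuler.χc_cls]
    haveI : IsProper (Y.left ↘ Spec (CommRingCat.of K)) := inferInstanceAs (IsProper Y.hom)
    haveI : Nonempty Y.left := ⟨η[Y].left (IsLocalRing.closedPoint K)⟩
    have h := CurveRR.euler_eq_sum (k := K) ((Scheme.Modules.pullback g').obj M) 1 fun i hi =>
      AVVanish.hh_pos (A := Y) hM' i hi
    simp only [Finset.sum_range_one, pow_zero, _root_.one_mul] at h
    refine Eq.trans ?_ h.symm
    have sq : IsPullback g' (Y.left ↘ Spec (CommRingCat.of K)) (B.left ↘ Spec (CommRingCat.of k)) t :=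
      IsPullback.of_hasPullback B.hom t
    haveI : CompactSpace B.left := QuasiCompact.compactSpace_of_compactSpace B.hom
    haveI : QuasiSeparatedSpace B.left := quasiSeparatedSpace_of_quasiSeparated B.hom
    obtain ⟨e⟩ := W7FlatBC.nonempty_hh_baseChange k K g' sq M (TMul.isQCoh_of_isInvertible hM) 0
    congr 1
    show Module.finrank k _ = Module.finrank K _
    rw [← Module.finrank_baseChange (R := K) (S := k)]
    exact LinearEquiv.finrank_eq e
  rw [AVEuler.χc_symm hgY] at hh
  have h1 : ((CurveRR.h k M 0 : ℕ) : ℤ) ^ 2 = ((2 ^ g * d : ℕ) : ℤ) ^ 2 := by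
    rw [hh, mul_pow, hsq]; push_cast; ring
  exact Nat.pow_left_injective two_ne_zero (by exact_mod_cast h1)

end Groth.Agent.AVFin
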